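import Cfsg.Agent.McLLyComp.Act
set_option linter.all false

/-!
# 2-components of `C_X(s)` and 2-components of `X` normalized by `s`

`le_or_le_cenMod`: `A` a 2-component of `C_X(s)`, `K` a 2-component of `X` normalized by `s`: `A ≤ K` or `A`
centralizes `K` modulo `O(X)`.

`exists_pump`: every 2-component `Z` of `C_X(s)` lies in an `s`-invariant 2-component of `X` or is
the diagonal of some `J ≠ J^s`.
-/

set_option autoImplicit false

open Cfsg Subgroup
open Cfsg.Agent.SignalizersComponents Cfsg.Agent.Lib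
open Cfsg.Agent.SignalizersComponents.IntrinsicBasic
open Cfsg.Agent.SignalizersComponents.IntrinsicIntr
open Cfsg.Agent.SignalizersComponents.PLayerAut
open Cfsg.Agent.Intrinsic.Basic Cfsg.Agent.Intrinsic.Cen Cfsg.Agent.Intrinsic.Diag
open Cfsg.Agent.Intrinsic.PumpUp (sup_form tc_image)
open Cfsg.Agent.Intrinsic.Charac
open scoped commutatorElement

namespace Cfsg.Agent.McLLyComp.PumpT

section corefree

variable {Q : Type*} [Group Q]

theorem zeta_mem {K : Subgroup Q} {z l k c : Q} (hz : z ∈ normalizer (K : Set Q))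
    (hc : c ∈ centralizer (K : Set Q)) (hl : l = k * c) (h : z * l = l * z) :
    k⁻¹ * (z * k * z⁻¹) ∈ centralizer (K : Set Q) := by
  have hzc : z * c * z⁻¹ ∈ centralizer (K : Set Q) := by
    rw [mem_centralizer_iff]
    intro x hx
    have h1 : z⁻¹ * x * z ∈ K := by
      have := (mem_normalizer_iff.mp (inv_mem hz) x).mp hx
      rwa [inv_inv] at this
    have h2 := mem_centralizer_iff.mp hc _ h1
    calc x * (z * c * z⁻¹) = z * ((z⁻¹ * x * z) * c) * z⁻¹ := by group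
      _ = z * (c * (z⁻¹ * x * z)) * z⁻¹ := by rw [h2]
      _ = z * c * z⁻¹ * x := by group
  have h3 : k⁻¹ * (z * k * z⁻¹) = c * (z * c * z⁻¹)⁻¹ := by
    have h4 : z * (k * c) * z⁻¹ = k * c := by rw [← hl, h, mul_inv_cancel_right]
    have h5 : (z * k * z⁻¹) * (z * c * z⁻¹) = k * c := by rw [← h4]; group
    calc k⁻¹ * (z * k * z⁻¹) = k⁻¹ * ((z * k * z⁻¹) * (z * c * z⁻¹)) * (z * c * z⁻¹)⁻¹ := by group
      _ = k⁻¹ * (k * c) * (z * c * z⁻¹)⁻¹ := by rw [h5]
      _ = _ := by group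
  rw [h3]
  exact mul_mem hc (inv_mem hzc)

variable [Finite Q]

/-- the core-free case of the pump-up lemma -/
theorem comp_le_or {K : Subgroup Q} {z : Q} {L : Subgroup Q}
    (hL : TC (centralizer ({z} : Set Q)) L) (hz : z ∈ normalizer (K : Set Q))
    (hLK : L ≤ K ⊔ centralizer (K : Set Q)) : L ≤ K ∨ L ≤ centralizer (K : Set Q) := by
  have : Fact (Nat.Prime 2) := ⟨Nat.prime_two⟩
  have hCN : K ⊔ centralizer (K : Set Q) ≤ normalizer (K : Set Q) :=
    sup_le le_normalizer (centralizer_le_normalizer _)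
  obtain ⟨M, hM⟩ : ∃ M, M = centralizer ({z} : Set Q) ⊓ normalizer (K : Set Q) := ⟨_, rfl⟩
  have hMC : M ≤ centralizer ({z} : Set Q) := hM ▸ inf_le_left
  have hLM : L ≤ M := hM ▸ le_inf hL.le (hLK.trans hCN)
  have hLtc : TC M L := restrict hL hMC hLM
  obtain ⟨N, hN⟩ : ∃ N, N = K ⊓ centralizer ({z} : Set Q) := ⟨_, rfl⟩
  have hNM : N ≤ M := by
    rw [hN, hM]
    exact le_inf inf_le_right (inf_le_left.trans le_normalizer)
  have hNn : (N.subgroupOf M).Normal := by
    constructor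
    intro n hn g
    have hn' : (n : Q) ∈ K ⊓ centralizer ({z} : Set Q) := hN ▸ hn
    have hg' : (g : Q) ∈ centralizer ({z} : Set Q) ⊓ normalizer (K : Set Q) := hM ▸ g.2
    change (g : Q) * n * (g : Q)⁻¹ ∈ N
    rw [hN]
    exact ⟨(mem_normalizer_iff.mp hg'.2 _).mp hn'.1,
      mul_mem (mul_mem hg'.1 hn'.2) ((centralizer ({z} : Set Q)).inv_mem hg'.1)⟩
  rcases LBalanceCore.pcomp_le_or_commutator_le hLtc.comp hNn with h | h
  · left
    intro l hl
    have h1 : (⟨l, hLM hl⟩ : M) ∈ N.subgroupOf M := h hl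
    have h2 : l ∈ N := h1
    rw [hN] at h2
    exact h2.1
  · right
    -- `⁅L, N⁆` has odd order
    have hodd : (Nat.card (⁅L, N⁆ : Subgroup Q)).Coprime 2 := by
      have h1 : (⁅L, N⁆ : Subgroup Q) = (⁅L.subgroupOf M, N.subgroupOf M⁆).map M.subtype := by
        rw [map_commutator, subgroupOf_map_subtype, subgroupOf_map_subtype, inf_of_le_left hLM,
          inf_of_le_left hNM]
      rw [h1, card_map_of_injective M.subtype_injective]
      exact (Cores.pPrimeCore_coprime (G := M) 2).coprime_dvd_left (card_dvd_of_le h)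
    -- the action on `K`
    let α : normalizer (K : Set Q) →* MulAut K := K.normalizerMonoidHom
    have hLN : L ≤ normalizer (K : Set Q) := hLK.trans hCN
    have hNN : N ≤ normalizer (K : Set Q) := by rw [hN]; exact inf_le_left.trans le_normalizer
    obtain ⟨A, hA⟩ : ∃ A, A = (L.subgroupOf (normalizer (K : Set Q))).map α := ⟨_, rfl⟩
    obtain ⟨B, hB⟩ : ∃ B, B = (N.subgroupOf (normalizer (K : Set Q))).map α := ⟨_, rfl⟩
    have hAA : ⁅A, A⁆ = A := by
      have h1 : ⁅L.subgroupOf (normalizer (K : Set Q)), L.subgroupOf (normalizer (K : Set Q))⁆ =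
          L.subgroupOf (normalizer (K : Set Q)) := by
        apply map_injective (normalizer (K : Set Q)).subtype_injective
        rw [map_commutator, subgroupOf_map_subtype, inf_of_le_left hLN, hL.perfect]
      rw [hA, ← map_commutator, h1]
    have hAB : A ≤ B := by
      rw [← hAA, commutator_le]
      intro a ha b hb
      rw [hA] at ha hb
      obtain ⟨l, hl, rfl⟩ := ha
      obtain ⟨m, hm, rfl⟩ := hb
      have hl' : (l : Q) ∈ L := hl
      have hm' : (m : Q) ∈ L := hm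
      obtain ⟨k, hk, c, hc, hlk⟩ := sup_form (hLK hl')
      obtain ⟨j, hj, d, hd, hmj⟩ := sup_form (hLK hm')
      have hzl : z * (l : Q) = l * z := (mem_centralizer_singleton_iff.mp (hL.le hl')).symm
      have hzm : z * (m : Q) = m * z := (mem_centralizer_singleton_iff.mp (hL.le hm')).symm
      have hx := zeta_mem hz hc hlk hzl
      have hy := zeta_mem hz hd hmj hzm
      obtain ⟨ζ, hζ⟩ : ∃ ζ, ζ = k⁻¹ * (z * k * z⁻¹) := ⟨_, rfl⟩
      obtain ⟨ξ, hξ⟩ : ∃ ξ, ξ = j⁻¹ * (z * j * z⁻¹) := ⟨_, rfl⟩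
      rw [← hζ] at hx
      rw [← hξ] at hy
      have hζK : ζ ∈ K := hζ ▸ mul_mem (inv_mem hk) ((mem_normalizer_iff.mp hz k).mp hk)
      have hξK : ξ ∈ K := hξ ▸ mul_mem (inv_mem hj) ((mem_normalizer_iff.mp hz j).mp hj)
      have eζ : z * k * z⁻¹ = k * ζ := by rw [hζ]; group
      have eξ : z * j * z⁻¹ = j * ξ := by rw [hξ]; group
      have cζk : Commute ζ k := (mem_centralizer_iff.mp hx k hk).symm
      have cζj : Commute ζ j := (mem_centralizer_iff.mp hx j hj).symm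
      have cξk : Commute ξ k := (mem_centralizer_iff.mp hy k hk).symm
      have cξj : Commute ξ j := (mem_centralizer_iff.mp hy j hj).symm
      have cζξ : Commute ζ ξ := (mem_centralizer_iff.mp hx ξ hξK).symm
      obtain ⟨w, hw⟩ : ∃ w, w = k * j * k⁻¹ * j⁻¹ := ⟨_, rfl⟩
      have hwK : w ∈ K := hw ▸ mul_mem (mul_mem (mul_mem hk hj) (inv_mem hk)) (inv_mem hj)
      have hwz : z * w * z⁻¹ = w := by
        calc z * w * z⁻¹
            = (z * k * z⁻¹) * (z * j * z⁻¹) * (z * k * z⁻¹)⁻¹ * (z * j * z⁻¹)⁻¹ := by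
              rw [hw]; group
          _ = (k * ζ) * (j * ξ) * (k * ζ)⁻¹ * (j * ξ)⁻¹ := by rw [eζ, eξ]
          _ = k * (ζ * j) * ξ * ζ⁻¹ * k⁻¹ * ξ⁻¹ * j⁻¹ := by group
          _ = k * (j * ζ) * ξ * ζ⁻¹ * k⁻¹ * ξ⁻¹ * j⁻¹ := by rw [cζj.eq]
          _ = k * j * (ζ * ξ) * ζ⁻¹ * k⁻¹ * ξ⁻¹ * j⁻¹ := by group
          _ = k * j * (ξ * ζ) * ζ⁻¹ * k⁻¹ * ξ⁻¹ * j⁻¹ := by rw [cζξ.eq]
          _ = k * j * (ξ * k⁻¹) * ξ⁻¹ * j⁻¹ := by group
          _ = k * j * (k⁻¹ * ξ) * ξ⁻¹ * j⁻¹ := by rw [cξk.inv_right.eq]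
          _ = w := by rw [hw]; group
      have hwz : w * z = z * w := by
        calc w * z = (z * w * z⁻¹) * z := by rw [hwz]
          _ = z * w := by group
      have hwN : w ∈ N := by
        rw [hN]
        exact ⟨hwK, mem_centralizer_singleton_iff.mpr hwz⟩
      rw [hB]
      refine ⟨⟨w, hNN hwN⟩, hwN, ?_⟩
      apply MulEquiv.ext
      intro x
      apply Subtype.ext
      have hc' : ∀ y ∈ K, c * y = y * c := fun y hy => (mem_centralizer_iff.mp hc y hy).symm
      have hd' : ∀ y ∈ K, d * y = y * d := fun y hy => (mem_centralizer_iff.mp hd y hy).symm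
      have hlx : ∀ y ∈ K, (l : Q) * y * (l : Q)⁻¹ = k * y * k⁻¹ := by
        intro y hy
        rw [hlk]
        calc k * c * y * (k * c)⁻¹ = k * (c * y) * c⁻¹ * k⁻¹ := by group
          _ = k * (y * c) * c⁻¹ * k⁻¹ := by rw [hc' y hy]
          _ = _ := by group
      have hmx : ∀ y ∈ K, (m : Q) * y * (m : Q)⁻¹ = j * y * j⁻¹ := by
        intro y hy
        rw [hmj]
        calc j * d * y * (j * d)⁻¹ = j * (d * y) * d⁻¹ * j⁻¹ := by group
          _ = j * (y * d) * d⁻¹ * j⁻¹ := by rw [hd' y hy]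
          _ = _ := by group
      have hlx' : ∀ y ∈ K, (l : Q)⁻¹ * y * (l : Q) = k⁻¹ * y * k := by
        intro y hy
        have h1 := hlx (k⁻¹ * y * k) (mul_mem (mul_mem (inv_mem hk) hy) hk)
        have h2 : k * (k⁻¹ * y * k) * k⁻¹ = y := by group
        rw [h2] at h1
        calc (l : Q)⁻¹ * y * (l : Q) = (l : Q)⁻¹ * ((l : Q) * (k⁻¹ * y * k) * (l : Q)⁻¹) * l := by
              rw [h1]
          _ = _ := by group
      have hmx' : ∀ y ∈ K, (m : Q)⁻¹ * y * (m : Q) = j⁻¹ * y * j := by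
        intro y hy
        have h1 := hmx (j⁻¹ * y * j) (mul_mem (mul_mem (inv_mem hj) hy) hj)
        have h2 : j * (j⁻¹ * y * j) * j⁻¹ = y := by group
        rw [h2] at h1
        calc (m : Q)⁻¹ * y * (m : Q) = (m : Q)⁻¹ * ((m : Q) * (j⁻¹ * y * j) * (m : Q)⁻¹) * m := by
              rw [h1]
          _ = _ := by group
      have hfin : w * (x : Q) * w⁻¹ = (l : Q) * (m * ((l : Q)⁻¹ * ((m : Q)⁻¹ * x * m) * l) *
          (m : Q)⁻¹) * (l : Q)⁻¹ := by
        have x1 : j⁻¹ * (x : Q) * j ∈ K := mul_mem (mul_mem (inv_mem hj) x.2) hj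
        have x2 : k⁻¹ * (j⁻¹ * (x : Q) * j) * k ∈ K := mul_mem (mul_mem (inv_mem hk) x1) hk
        have x3 : j * (k⁻¹ * (j⁻¹ * (x : Q) * j) * k) * j⁻¹ ∈ K :=
          mul_mem (mul_mem hj x2) (inv_mem hj)
        rw [hmx' _ x.2, hlx' _ x1, hmx _ x2, hlx _ x3, hw]
        group
      have hL1 : ((α ⟨w, hNN hwN⟩ x : K) : Q) = w * (x : Q) * w⁻¹ := rfl
      have hR1 : (((⁅α l, α m⁆ : MulAut K) x : K) : Q) = (l : Q) * (m * ((l : Q)⁻¹ *
          ((m : Q)⁻¹ * x * m) * l) * (m : Q)⁻¹) * (l : Q)⁻¹ := by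
        rw [commutatorElement_def, ← map_mul, ← map_inv, ← map_mul, ← map_inv, ← map_mul]
        change ((l * m * l⁻¹ * m⁻¹ : normalizer (K : Set Q)) : Q) * (x : Q) *
          ((l * m * l⁻¹ * m⁻¹ : normalizer (K : Set Q)) : Q)⁻¹ = _
        push_cast
        group
      rw [hL1, hR1]
      exact hfin
    have hABodd : (Nat.card (⁅A, B⁆ : Subgroup (MulAut K))).Coprime 2 := by
      have h1 : (⁅L.subgroupOf (normalizer (K : Set Q)), N.subgroupOf (normalizer (K : Set Q))⁆).map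
          (normalizer (K : Set Q)).subtype = ⁅L, N⁆ := by
        rw [map_commutator, subgroupOf_map_subtype, subgroupOf_map_subtype, inf_of_le_left hLN,
          inf_of_le_left hNN]
      have h2 : (Nat.card (⁅L.subgroupOf (normalizer (K : Set Q)),
          N.subgroupOf (normalizer (K : Set Q))⁆ : Subgroup _)).Coprime 2 := by
        rw [← card_map_of_injective (normalizer (K : Set Q)).subtype_injective, h1]
        exact hodd
      rw [hA, hB, ← map_commutator]
      exact h2.coprime_dvd_left (card_map_dvd _ _)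
    have hAodd : (Nat.card A).Coprime 2 := by
      have h1 : A ≤ ⁅A, B⁆ := by
        calc A = ⁅A, A⁆ := hAA.symm
          _ ≤ ⁅A, B⁆ := commutator_mono le_rfl hAB
      exact hABodd.coprime_dvd_left (card_dvd_of_le h1)
    -- `L` is generated by 2-elements
    rw [← pElem_eq hL]
    refine (Subgroup.closure_le _).mpr ?_
    rintro y ⟨hy, n, hn⟩
    have h1 : α ⟨y, hLN hy⟩ = 1 := by
      have h2 : α ⟨y, hLN hy⟩ ∈ A := by
        rw [hA]; exact ⟨⟨y, hLN hy⟩, hy, rfl⟩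
      have h3 : orderOf (⟨_, h2⟩ : A) ∣ Nat.card A := orderOf_dvd_natCard _
      have h4 : (⟨_, h2⟩ : A) ^ 2 ^ n = 1 := by
        apply Subtype.ext
        change (α ⟨y, hLN hy⟩) ^ 2 ^ n = 1
        rw [← map_pow]
        have : (⟨y, hLN hy⟩ : normalizer (K : Set Q)) ^ 2 ^ n = 1 := by
          apply Subtype.ext; simpa using hn
        rw [this, map_one]
      have h5 := orderOf_dvd_of_pow_eq_one h4
      have h6 : orderOf (⟨_, h2⟩ : A) = 1 :=
        Nat.eq_one_of_dvd_coprimes (Nat.Coprime.pow_right n hAodd) h3 h5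
      exact congrArg Subtype.val (orderOf_eq_one_iff.mp h6)
    have h2 : (⟨y, hLN hy⟩ : normalizer (K : Set Q)) ∈ α.ker := h1
    rw [show α.ker = _ from normalizerMonoidHom_ker K] at h2
    exact h2

end corefree

/-! ### the general case -/

variable {G : Type*} [Group G] [Finite G]

/-- **T3'.** a 2-component `L` of `C_X(z)` and a 2-component `K` of `X` normalized by `z` -/
theorem tc_le_or {X K L : Subgroup G} {z : G} (hzX : z ∈ X) (hz2 : z * z = 1)
    (hL : TC (X ⊓ centralizer ({z} : Set G)) L) (hK : TC X K) (hz : z ∈ normalizer (K : Set G)) :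
    L ≤ K ∨ L ≤ cenMod X K := by
  have hbal := IntrinsicBalance.balance hzX hz2 hL hK
  have hLX : L ≤ X := hL.le.trans inf_le_left
  obtain ⟨π, hπ⟩ : ∃ π, π = QuotientGroup.mk' (oddCore ↥X) := ⟨_, rfl⟩
  have key : ∀ a : G, ∀ haX : a ∈ X, a ∈ K ⊔ cenMod X K → π ⟨a, haX⟩ ∈
      (K.subgroupOf X).map π ⊔ centralizer (((K.subgroupOf X).map π : Subgroup _) : Set _) := by
    intro a haX ha
    obtain ⟨k, hk, hc⟩ := IntrinsicBalance.sup_form hK ha
    obtain ⟨⟨c, hcX⟩, hc1, hc2⟩ := hc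
    have h1 : (⟨a, haX⟩ : ↥X) = ⟨k, hK.le hk⟩ * ⟨c, hcX⟩ := by
      apply Subtype.ext
      change a = k * c
      have : c = k⁻¹ * a := hc2
      rw [this]; group
    rw [h1, map_mul]
    refine mul_mem (mem_sup_left ⟨_, hk, rfl⟩) (mem_sup_right ?_)
    rw [hπ]
    exact hc1
  have himg := tc_image hzX hz2 hL
  rw [← hπ] at himg
  have hLle : (L.subgroupOf X).map π ≤
      (K.subgroupOf X).map π ⊔ centralizer (((K.subgroupOf X).map π : Subgroup _) : Set _) := by
    rintro _ ⟨l, hl, rfl⟩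
    exact key l l.2 (hbal hl)
  have hznorm : π ⟨z, hzX⟩ ∈ normalizer (((K.subgroupOf X).map π : Subgroup _) : Set _) := by
    have h1 : ∀ g : ↥X, (g : G) ∈ normalizer (K : Set G) → ∀ x ∈ (K.subgroupOf X).map π,
        π g * x * (π g)⁻¹ ∈ (K.subgroupOf X).map π := by
      rintro g hg _ ⟨k, hk, rfl⟩
      refine ⟨g * k * g⁻¹, ?_, ?_⟩
      · exact (mem_normalizer_iff.mp hg _).mp hk
      · rw [map_mul, map_mul, map_inv]
    rw [mem_normalizer_iff]
    intro x
    constructor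
    · exact h1 ⟨z, hzX⟩ hz x
    · intro hx
      have h2 := h1 (⟨z, hzX⟩⁻¹) (by
        change z⁻¹ ∈ normalizer (K : Set G)
        exact inv_mem hz) _ hx
      rw [map_inv, inv_inv] at h2
      convert h2 using 1
      group
  rcases comp_le_or himg hznorm hLle with h | h
  · left
    rw [← pElem_eq hL]
    refine (Subgroup.closure_le _).mpr ?_
    rintro y ⟨hy, n, hn⟩
    obtain ⟨k, hk, hky⟩ := h ⟨⟨y, hLX hy⟩, hy, rfl⟩
    refine hK.mem_of_two (k := k) hk ?_ (n := n) hn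
    rw [hπ] at hky
    exact mk_eq_mk_iff.mp hky
  · right
    intro l hl
    refine ⟨⟨l, hLX hl⟩, ?_, rfl⟩
    rw [hπ] at h
    exact h ⟨⟨l, hLX hl⟩, hl, rfl⟩

/-- some 2-component of `X` is not centralized (modulo `O(X)`) by the 2-component `L` of `C_X(z)` -/
theorem exists_not_le_cenMod {X L : Subgroup G} {z : G} (hzX : z ∈ X) (hz2 : z * z = 1)
    (hL : TC (X ⊓ centralizer ({z} : Set G)) L) : ∃ K, TC X K ∧ ¬ L ≤ cenMod X K := by
  have hLX : L ≤ X := hL.le.trans inf_le_left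
  by_contra hno
  push Not at hno
  have h1 : ∀ K, TC X K → L ≤ cenMod X K := hno
  -- `L` lies in the 2-layer
  have h2 : L ≤ (pLayer 2 ↥X).map X.subtype := by
    have hT : IsPGroup 2 ↥(zpowers (⟨z, hzX⟩ : ↥X)) := by
      rintro ⟨_, n, rfl⟩
      refine ⟨1, ?_⟩
      apply Subtype.ext
      have h1 : (⟨z, hzX⟩ : ↥X) ^ 2 = 1 := by
        apply Subtype.ext
        simpa [pow_two] using hz2
      change ((⟨z, hzX⟩ : ↥X) ^ n) ^ (2 ^ 1) = 1
      rw [pow_one, ← zpow_natCast, ← zpow_mul, mul_comm, zpow_mul, zpow_natCast, h1, one_zpow]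
    have h1 := Cfsg.Agent.S1301.result (X := ↥X) (zpowers (⟨z, hzX⟩ : ↥X)) hT
    have h2 := isPComponent_map_equiv 2 (IntrinsicBalance.centEquiv X z hzX) hL.comp
    intro a ha
    have ha' : (⟨a, hL.le ha⟩ : ↥(X ⊓ centralizer ({z} : Set G))) ∈
        L.subgroupOf (X ⊓ centralizer ({z} : Set G)) := ha
    have h3 : (IntrinsicBalance.centEquiv X z hzX) ⟨a, hL.le ha⟩ ∈
        pLayer 2 ↥(centralizer ((zpowers (⟨z, hzX⟩ : ↥X) : Subgroup ↥X) : Set ↥X)) :=
      (le_sSup (show _ ∈ {K | IsPComponent 2 K} from h2)) ⟨_, ha', rfl⟩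
    have h4 := h1 ⟨_, h3, rfl⟩
    exact ⟨⟨a, (hL.le ha).1⟩, h4, rfl⟩
  -- hence `L` is abelian modulo `O(X)`
  have h3 : ∀ l ∈ L, ∀ x ∈ (pLayer 2 ↥X).map X.subtype, x⁻¹ * (l * x * l⁻¹) ∈ relCore 2 X := by
    intro l hl
    let W : Subgroup ↥X := (centralizer ({(QuotientGroup.mk' (oddCore ↥X)) ⟨l, hLX hl⟩} :
      Set (↥X ⧸ oddCore ↥X))).comap (QuotientGroup.mk' (oddCore ↥X))
    have hW : ∀ x : ↥X, x ∈ W ↔ (x : G)⁻¹ * (l * x * l⁻¹) ∈ relCore 2 X := by
      intro x
      change (QuotientGroup.mk' (oddCore ↥X)) x ∈ centralizer _ ↔ _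
      rw [mem_centralizer_singleton_iff]
      have e : (QuotientGroup.mk' (oddCore ↥X)) x =
          (QuotientGroup.mk' (oddCore ↥X)) (⟨l, hLX hl⟩ * x * ⟨l, hLX hl⟩⁻¹) ↔
          (x : G)⁻¹ * (l * x * l⁻¹) ∈ relCore 2 X := mk_eq_mk_iff
      rw [← e, map_mul, map_mul, map_inv]
      constructor
      · intro h
        rw [← h]; group
      · intro h
        nth_rewrite 1 [h]
        group
    have hle : pLayer 2 ↥X ≤ W := by
      rw [pLayer_def]
      refine sSup_le fun K hK => ?_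
      intro x hx
      rw [hW]
      have hTC : TC X (K.map X.subtype) := tc_of_subtype hK
      exact ((mem_cenMod hTC.le).mp (h1 _ hTC hl)).2 x ⟨x, hx, rfl⟩
    rintro _ ⟨x, hx, rfl⟩
    exact (hW x).mp (hle hx)
  have h4 : ⁅L, L⁆ ≤ relCore 2 X := by
    rw [commutator_le]
    intro a ha b hb
    have h5 := h3 a ha b (h2 hb)
    have h6 : ⁅a, b⁆ = (a * b * a⁻¹) * b⁻¹ := rfl
    have h7 : b * (b⁻¹ * (a * b * a⁻¹)) * b⁻¹ ∈ relCore 2 X :=
      conj_mem_relCore' (hLX hb) h5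
    rw [h6]
    convert h7 using 1
    group
  rw [hL.perfect] at h4
  have h5 := even_card hL
  have h6 := odd_card_relCore X
  have h7 := card_dvd_of_le h4
  exact (Nat.not_even_iff_odd.mpr h6) (even_iff_two_dvd.mpr (h5.trans h7))

/-- **Pump-up.** Every 2-component `Z` of `C_X(s)` lies in an `s`-invariant 2-component of `X` or is
a diagonal. -/
theorem exists_pump {X Z : Subgroup G} {s : G} (hsX : s ∈ X) (hs : s * s = 1)
    (hZ : IsComp (X ⊓ centralizer ({s} : Set G)) Z) :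
    ∃ J, IsComp X J ∧ ¬ Z ≤ cenMod X J ∧
      ((s ∈ normalizer (J : Set G) ∧ Z ≤ J) ∨ (cj s J ≠ J ∧ Z = diag X J s)) := by
  obtain ⟨J, hJ, hJn⟩ := exists_not_le_cenMod hsX hs hZ.tc
  have hJ' : IsComp X J := IsComp.of_tc hJ
  refine ⟨J, hJ', hJn, ?_⟩
  by_cases hsJ : cj s J = J
  · left
    have hn : s ∈ normalizer (J : Set G) := mem_normalizer_iff_cj.mpr hsJ
    exact ⟨hn, (tc_le_or hsX hs hZ.tc hJ hn).resolve_right hJn⟩
  · right
    refine ⟨hsJ, ?_⟩
    by_contra hne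
    apply hJn
    obtain ⟨hD, -, -, -⟩ := exists_diag hJ' hsX hs hsJ
    have hZX : Z ≤ X := hZ.le.trans inf_le_left
    have hbal := IntrinsicBalance.balance hsX hs hZ.tc hJ
    have hJs : TC X (cj s J) := (isComp_cj_of_mem hJ' hsX).tc
    have hbal' := IntrinsicBalance.balance hsX hs hZ.tc hJs
    intro g hg
    have h1 : Fixes g J := by
      refine fixes_of_comm_diag hJ' hsX hs hsJ (hZX hg)
        (IntrinsicBalance.sup_le_normalizer hJ (hbal hg))
        (IntrinsicBalance.sup_le_normalizer hJs (hbal' hg)) fun m hm => ?_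
      have h2 : ⁅g, m⁆ ∈ core Z ⊓ core (diag X J s) :=
        hZ.comm_le_core hD hne (commutator_mem_commutator hg hm)
      have h3 := hD.core_le_core h2.2
      -- `core (diag) ≤ core X`
      obtain ⟨-, -, -, h4, -⟩ := exists_diag hJ' hsX hs hsJ
      rw [h4] at h2
      exact h2.2.2
    exact (hJ'.fixes_iff (hZX hg)).mp h1

end Cfsg.Agent.McLLyComp.PumpT
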