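import Cfsg.Agent.Intrinsic.Cen
import Cfsg.Agent.Intrinsic.Diag
set_option linter.all false

/-!
# The action of `N(K)` on `K / O(K)`

`act K : N(K) →* MulAut (K / O(K))`; `act K a = 1 ↔ Fixes a K`.
-/

set_option autoImplicit false

open Cfsg Subgroup
open Cfsg.Agent.SignalizersComponents Cfsg.Agent.Lib
open Cfsg.Agent.SignalizersComponents.IntrinsicBasic
open Cfsg.Agent.SignalizersComponents.PLayerAut
open Cfsg.Agent.Intrinsic.Basic Cfsg.Agent.Intrinsic.Cen
open scoped commutatorElement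

namespace Cfsg.Agent.McLLyComp.Act

variable {G : Type*} [Group G]

/-- the action of `N(K)` on `K / O(K)` -/
noncomputable def act (K : Subgroup G) :
    ↥(normalizer (K : Set G)) →* MulAut (↥K ⧸ oddCore ↥K) where
  toFun a := QuotientGroup.congr (oddCore ↥K) (oddCore ↥K) (K.normalizerMonoidHom a)
    (Cores.map_equiv_pPrimeCore _ 2)
  map_one' := by
    apply MulEquiv.ext
    intro x
    obtain ⟨k, rfl⟩ := QuotientGroup.mk_surjective x
    change (QuotientGroup.mk (K.normalizerMonoidHom 1 k) : ↥K ⧸ oddCore ↥K) = _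
    rw [map_one]
    rfl
  map_mul' a b := by
    apply MulEquiv.ext
    intro x
    obtain ⟨k, rfl⟩ := QuotientGroup.mk_surjective x
    change (QuotientGroup.mk (K.normalizerMonoidHom (a * b) k) : ↥K ⧸ oddCore ↥K) = _
    rw [map_mul]
    rfl

theorem conj_mem {K : Subgroup G} {a k : G} (ha : a ∈ normalizer (K : Set G)) (hk : k ∈ K) :
    a * k * a⁻¹ ∈ K := (mem_normalizer_iff.mp ha k).mp hk

theorem act_mk {K : Subgroup G} {a k : G} (ha : a ∈ normalizer (K : Set G)) (hk : k ∈ K) :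
    act K ⟨a, ha⟩ (QuotientGroup.mk ⟨k, hk⟩) = QuotientGroup.mk ⟨a * k * a⁻¹, conj_mem ha hk⟩ := rfl

/-- equality in `K / O(K)` -/
theorem mk_eq_iff {K : Subgroup G} {x y : G} (hx : x ∈ K) (hy : y ∈ K) :
    (QuotientGroup.mk (⟨x, hx⟩ : ↥K) : ↥K ⧸ oddCore ↥K) = QuotientGroup.mk ⟨y, hy⟩ ↔
      x⁻¹ * y ∈ core K := by
  rw [QuotientGroup.eq]
  exact (mem_core_iff (K.mul_mem (K.inv_mem hx) hy)).symm

theorem mk_eq_one_iff {K : Subgroup G} {x : G} (hx : x ∈ K) :
    (QuotientGroup.mk (⟨x, hx⟩ : ↥K) : ↥K ⧸ oddCore ↥K) = 1 ↔ x ∈ core K := by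
  rw [QuotientGroup.eq_one_iff]
  exact (mem_core_iff hx).symm

theorem act_eq_one_iff {K : Subgroup G} {a : G} (ha : a ∈ normalizer (K : Set G)) :
    act K ⟨a, ha⟩ = 1 ↔ Fixes a K := by
  rw [fixes_iff_conj]
  constructor
  · intro h
    refine ⟨ha, fun y hy => ?_⟩
    have h1 := DFunLike.congr_fun h (QuotientGroup.mk ⟨y, hy⟩)
    rw [act_mk ha hy] at h1
    exact (mk_eq_iff hy (conj_mem ha hy)).mp h1.symm
  · rintro ⟨-, h⟩
    apply MulEquiv.ext
    intro x
    obtain ⟨⟨k, hk⟩, rfl⟩ := QuotientGroup.mk_surjective x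
    rw [act_mk ha hk]
    exact ((mk_eq_iff hk (conj_mem ha hk)).mpr (h k hk)).symm

theorem act_of_mem {K : Subgroup G} {k : G} (hk : k ∈ K) :
    act K ⟨k, le_normalizer hk⟩ = MulAut.conj (QuotientGroup.mk ⟨k, hk⟩) := by
  apply MulEquiv.ext
  intro x
  obtain ⟨⟨y, hy⟩, rfl⟩ := QuotientGroup.mk_surjective x
  rfl

theorem act_mul {K : Subgroup G} {a b : G} (ha : a ∈ normalizer (K : Set G))
    (hb : b ∈ normalizer (K : Set G)) :
    act K ⟨a * b, mul_mem ha hb⟩ = act K ⟨a, ha⟩ * act K ⟨b, hb⟩ := by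
  rw [← map_mul]
  rfl

theorem act_inv {K : Subgroup G} {a : G} (ha : a ∈ normalizer (K : Set G)) :
    act K ⟨a⁻¹, inv_mem ha⟩ = (act K ⟨a, ha⟩)⁻¹ := by
  rw [← map_inv]
  rfl

theorem act_congr {K : Subgroup G} {a b : G} (ha : a ∈ normalizer (K : Set G)) (h : a = b) :
    act K ⟨a, ha⟩ = act K ⟨b, h ▸ ha⟩ := by
  subst h; rfl

/-- `Fixes` is closed under products -/
theorem fixes_mul {K : Subgroup G} {a b : G} (ha : Fixes a K) (hb : Fixes b K) :
    Fixes (a * b) K := by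
  have h1 := (act_eq_one_iff ha.1).mpr ha
  have h2 := (act_eq_one_iff hb.1).mpr hb
  rw [← act_eq_one_iff (mul_mem ha.1 hb.1), act_mul ha.1 hb.1, h1, h2, one_mul]

theorem fixes_inv {K : Subgroup G} {a : G} (ha : Fixes a K) : Fixes a⁻¹ K := by
  have h1 := (act_eq_one_iff ha.1).mpr ha
  rw [← act_eq_one_iff (inv_mem ha.1), act_inv ha.1, h1, inv_one]

theorem fixes_one (K : Subgroup G) : Fixes 1 K := by
  rw [← act_eq_one_iff (one_mem _)]
  exact map_one (act K)

/-- `Fixes` and products -/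
theorem fixes_mul_iff_right {K : Subgroup G} {a b : G} (ha : Fixes a K) :
    Fixes (a * b) K ↔ Fixes b K := by
  constructor
  · intro h
    have := fixes_mul (fixes_inv ha) h
    rwa [inv_mul_cancel_left] at this
  · exact fixes_mul ha

theorem fixes_mul_iff_left {K : Subgroup G} {a b : G} (hb : Fixes b K) :
    Fixes (a * b) K ↔ Fixes a K := by
  constructor
  · intro h
    have := fixes_mul h (fixes_inv hb)
    rwa [mul_inv_cancel_right] at this
  · exact fun h => fixes_mul h hb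

/-- conjugation by elements normalizing `K` -/
theorem fixes_conj {K : Subgroup G} {a g : G} (ha : Fixes a K) (hg : g ∈ normalizer (K : Set G)) :
    Fixes (g * a * g⁻¹) K := by
  have h1 := (act_eq_one_iff ha.1).mpr ha
  rw [← act_eq_one_iff (mul_mem (mul_mem hg ha.1) (inv_mem hg)),
    act_mul (mul_mem hg ha.1) (inv_mem hg), act_mul hg ha.1, h1, act_inv hg, mul_one,
    mul_inv_cancel]

/-- `act K a = act K b` -/
theorem act_eq_iff {K : Subgroup G} {a b : G} (ha : a ∈ normalizer (K : Set G))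
    (hb : b ∈ normalizer (K : Set G)) : act K ⟨a, ha⟩ = act K ⟨b, hb⟩ ↔ Fixes (a * b⁻¹) K := by
  rw [← act_eq_one_iff (mul_mem ha (inv_mem hb)), act_mul ha (inv_mem hb), act_inv hb,
    mul_inv_eq_one]

end Cfsg.Agent.McLLyComp.Act
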